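import Groth.Agent.RegLib.Basic
import Groth.Agent.DCohMore.GoodMod
import Groth.Agent.DCohMore.BCGeneral
import Groth.Agent.DCohLib.Adjoint
import Groth.Agent.DCohLib.ProjFlf

/-!
# Modules without higher direct images
-/

set_option autoImplicit false
set_option backward.isDefEq.respectTransparency false
set_option linter.style.haveILetI false
set_option linter.unusedSectionVars false
set_option maxHeartbeats 1000000

universe u

open CategoryTheory CategoryTheory.Limits AlgebraicGeometry TopologicalSpace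
open Groth.Agent.DCohLib Groth.Agent.DCohMore

attribute [local instance] HasDerivedCategory.standard

noncomputable section

namespace Groth.Agent.KPush

variable {X Y Z : Scheme.{u}}

/-- The derived direct image of a module. -/
def Rf (f : X ⟶ Y) (F : X.Modules) : DCoh.D Y :=
  haveI := BC.hasRpush f
  (DCoh.Rpush f).obj (DCoh.inD X F)

/-- No higher direct images. -/
def RVan (f : X ⟶ Y) (F : X.Modules) : Prop := ∀ q : ℤ, 1 ≤ q → IsZero (DCoh.HD (Rf f F) q)

theorem rvan_iff_rpush (f : X ⟶ Y) [HasInjectiveResolutions X.Modules] (F : X.Modules) :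
    RVan f F ↔ ∀ q : ℕ, 1 ≤ q → IsZero ((Coh.Rpush f q).obj F) := by
  haveI := BC.hasRpush f
  haveI : HasInjectiveResolutions (ModSite.Mod X.sheaf) := ‹HasInjectiveResolutions X.Modules›
  haveI : SiteCmp.HasRpushD (ModSite.RMor.ofScheme f) := BC.hasRpush f
  refine ⟨fun h q hq => ?_, fun h q hq => ?_⟩
  · obtain ⟨e⟩ := SiteCmpLib.nonempty_homology_rpushD_single (ModSite.RMor.ofScheme f) F q
    exact IsZero.of_iso (h q (by omega)) e.symm
  · obtain ⟨n, rfl⟩ := Int.eq_ofNat_of_zero_le (show (0 : ℤ) ≤ q by omega)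
    obtain ⟨e⟩ := SiteCmpLib.nonempty_homology_rpushD_single (ModSite.RMor.ofScheme f) F n
    exact IsZero.of_iso (h n (by omega)) e

theorem isZero_hd_inD (M : X.Modules) {q : ℤ} (hq : q ≠ 0) : IsZero (DCoh.HD (DCoh.inD X M) q) :=
  IsZero.of_iso (HomologicalComplex.isZero_single_obj_homology (ComplexShape.up ℤ) 0 M q hq)
    ((DerivedCategory.homologyFunctor X.Modules q).mapIso ((DerivedCategory.singleFunctorIsoCompQ X.Modules 0).app M) ≪≫
      (DerivedCategory.homologyFunctorFactors X.Modules q).app _)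

theorem rvan_iso (f : X ⟶ Y) {F G : X.Modules} (e : F ≅ G) (h : RVan f F) : RVan f G := fun q hq =>
  haveI := BC.hasRpush f
  IsZero.of_iso (h q hq) ((DerivedCategory.homologyFunctor Y.Modules q).mapIso ((DCoh.Rpush f).mapIso
    ((DerivedCategory.singleFunctor X.Modules 0).mapIso e.symm)))

theorem rvan_congr {f g : X ⟶ Y} (h : f = g) {F : X.Modules} (hf : RVan f F) : RVan g F := h ▸ hf

theorem rvan_affine (i : X ⟶ Y) [IsAffineHom i] (M : X.Modules) [Coh.IsQCoh M] : RVan i M := fun q hq => by
  haveI := BC.hasRpush i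
  obtain ⟨e⟩ := nonempty_rpush_inD_affine i M
  exact IsZero.of_iso (isZero_hd_inD _ (by omega : q ≠ 0)) ((DerivedCategory.homologyFunctor Y.Modules q).mapIso e)

/-- Without higher direct images the derived direct image is the direct image. -/
theorem nonempty_rf_iso {f : X ⟶ Y} {F : X.Modules} (h : RVan f F) :
    Nonempty (Rf f F ≅ DCoh.inD Y ((Scheme.Modules.pushforward f).obj F)) := by
  haveI := BC.hasRpush f
  haveI h1 : (Rf f F).IsGE 0 := isGE_rpush f _ 0
  haveI h2 : (Rf f F).IsLE 0 := (DerivedCategory.isLE_iff _ _).2 fun q hq => h q (by omega)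
  obtain ⟨M, ⟨e⟩⟩ := DerivedCategory.exists_iso_singleFunctor_obj_of_isGE_of_isLE (Rf f F) 0
  let i : (Scheme.Modules.pushforward f).obj F ≅ M := (PushZero.zeroIso f).app F ≪≫
    (DerivedCategory.homologyFunctor Y.Modules 0).mapIso e ≪≫
    (DerivedCategory.singleFunctorCompHomologyFunctorIso Y.Modules 0).app M
  exact ⟨e ≪≫ (DerivedCategory.singleFunctor Y.Modules 0).mapIso i.symm⟩

/-- Composition. -/
theorem rvan_comp_iff {f : X ⟶ Y} (g : Y ⟶ Z) {F : X.Modules} (h : RVan f F) :
    RVan (f ≫ g) F ↔ RVan g ((Scheme.Modules.pushforward f).obj F) := by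
  haveI := BC.hasRpush f
  haveI := BC.hasRpush g
  haveI := BC.hasRpush (f ≫ g)
  obtain ⟨c⟩ := nonempty_rpushCompIso f g
  obtain ⟨e⟩ := nonempty_rf_iso h
  let i : Rf (f ≫ g) F ≅ Rf g ((Scheme.Modules.pushforward f).obj F) :=
    (c.app (DCoh.inD X F)).symm ≪≫ (DCoh.Rpush g).mapIso e
  exact ⟨fun h' q hq => IsZero.of_iso (h' q hq) ((DerivedCategory.homologyFunctor Z.Modules q).mapIso i).symm,
    fun h' q hq => IsZero.of_iso (h' q hq) ((DerivedCategory.homologyFunctor Z.Modules q).mapIso i)⟩

theorem isAffineHom_of_closed (i : X ⟶ Y) [IsClosedImmersion i] : IsAffineHom i := inferInstance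

/-- Tensoring with bundles from the base. -/
theorem rvan_tensor_pullback (f : X ⟶ Y) {F : X.Modules} (h : RVan f F) {B : Y.Modules}
    (hB : FlatMod.IsFinLocFree B) : RVan f (CohB1.tensorMod F ((Scheme.Modules.pullback f).obj B)) := by
  haveI : EnoughInjectives X.Modules := inferInstance
  haveI : HasInjectiveResolutions X.Modules := inferInstance
  refine (rvan_iff_rpush f _).2 fun q hq => ?_
  obtain ⟨e⟩ := nonempty_projection_flf f F hB q
  exact IsZero.of_iso (((DCoh.tensorBi (X := Y)).flip.obj B).map_isZero ((rvan_iff_rpush f F).1 h q hq)) e.symm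

end Groth.Agent.KPush
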