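import Groth.Agent.KPushLib.Good
import Groth.Agent.KPushLib.RVan
import Groth.Agent.KVbLib.Ring
import Groth.Agent.KRRAmple.PushClDisjoint
import Groth.Agent.BCLib.DVR

/-!
# The push-forward of a factorisation through projective space on acyclic bundles
-/

set_option autoImplicit false
set_option backward.isDefEq.respectTransparency false
set_option linter.style.haveILetI false
set_option linter.unusedSectionVars false
set_option maxHeartbeats 1000000

universe v w z u

open CategoryTheory CategoryTheory.Limits AlgebraicGeometry TopologicalSpace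
open Groth.Agent.DCohLib Groth.Agent.DCohMore

attribute [local instance] HasDerivedCategory.standard

noncomputable section

namespace Groth.Agent.KPush

open Groth.Agent.DCohMore.TwistOver Groth.Agent.RegLib Groth.Agent.KRRAmple

theorem isNoetherian_PY (r : ℕ) (S : Scheme.{u}) [IsNoetherian S] : IsNoetherian (KRR.PY r S) := by
  haveI : IsProper (KRR.pr r S) := BCLib.isProper_toBase r _
  haveI : IsLocallyNoetherian (KRR.PY r S) := LocallyOfFiniteType.isLocallyNoetherian (KRR.pr r S)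
  haveI : CompactSpace ↥(KRR.PY r S) := QuasiCompact.compactSpace_of_compactSpace (KRR.pr r S)
  exact {}

section KVal

variable {Y : Scheme.{u}} [IsLocallyNoetherian Y] (hYe : KRR.HasEnoughLocFree Y)

/-- The class in `K₀` of bundles of a module of finite projective dimension. -/
def clP (M : Y.Modules) : SGA6.Kvb Y :=
  (exists_equiv_PDfin hYe).choose.symm (KZero.clSub PDfin M)

theorem clP_flf {M : Y.Modules} (hM : FlatMod.IsFinLocFree M) : clP hYe M = KRR.cl Y M := by
  rw [clP, ← (exists_equiv_PDfin hYe).choose_spec M hM, AddEquiv.symm_apply_apply]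

theorem clP_iso {M N : Y.Modules} (e : M ≅ N) (hM : PDfin M) : clP hYe N = clP hYe M := by
  rw [clP, clP, (clSub_iso_PDfin e hM).2]

theorem pushCl_clP {X : Scheme.{u}} (i : X ⟶ Y) (hi : Mor2.IsRegularClosedImmersion i) [CompactSpace X]
    {KX : Type v} {KY : Type w} [CommRing KX] [CommRing KY] {φX : SGA6.Kvb X →+ KX} {φY : SGA6.Kvb Y →+ KY}
    {a : KX →+ KY} (ha : KRR.IsPushCl i φX φY a) {F : X.Modules} (hF : FlatMod.IsFinLocFree F) :
    a (φX (KRR.cl X F)) = φY (clP hYe ((Scheme.Modules.pushforward i).obj F)) :=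
  pushCl_value i hi hYe φX φY a ha _ (exists_equiv_PDfin hYe).choose_spec F hF

/-- Direct images along regular closed immersions keep finite projective dimension. -/
theorem pdFin_push_pdFin {X : Scheme.{u}} [IsLocallyNoetherian X] (i : X ⟶ Y) (hi : Mor2.IsRegularClosedImmersion i)
    [CompactSpace X] (hXe : KRR.HasEnoughLocFree X) :
    ∀ (n : ℕ) (M : X.Modules), PD n M → PDfin ((Scheme.Modules.pushforward i).obj M)
  | 0, M, h => pdFin_pushforward i hi M ((pd_zero_iff _).1 h)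
  | n + 1, M, h => by
    haveI := hi.1
    obtain ⟨E, p, hE, hp⟩ := hXe M h.1
    haveI := hp
    exact pdFin_X₃ ((K0ResLib.kerSC_shortExact p).map_of_exact (Scheme.Modules.pushforward i))
      (pdFin_push_pdFin i hi hXe n (kernel p)
        (PD.X₁ (K0ResLib.kerSC_shortExact p) (((pd_zero_iff _).2 hE).mono (Nat.zero_le n)) h))
      (pdFin_pushforward i hi E hE)

/-- The push-forward along a regular closed immersion on classes of modules of finite projective dimension. -/
theorem pushCl_clP_pd {X : Scheme.{u}} [IsLocallyNoetherian X] (i : X ⟶ Y) (hi : Mor2.IsRegularClosedImmersion i)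
    [CompactSpace X] (hXe : KRR.HasEnoughLocFree X)
    {KX : Type v} {KY : Type w} [CommRing KX] [CommRing KY] {φX : SGA6.Kvb X →+ KX} {φY : SGA6.Kvb Y →+ KY}
    {a : KX →+ KY} (ha : KRR.IsPushCl i φX φY a) {M : X.Modules} (hM : PDfin M) :
    a (φX (clP hXe M)) = φY (clP hYe ((Scheme.Modules.pushforward i).obj M)) := by
  haveI := hi.1
  have hle : ∀ M : X.Modules, PDfin M → PDfin ((Scheme.Modules.pushforward i).obj M) := fun M ⟨n, hn⟩ =>
    pdFin_push_pdFin i hi hXe n M hn
  let eX := (exists_equiv_PDfin hXe).choose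
  let eY := (exists_equiv_PDfin hYe).choose
  let Φ := SGA6.mapSub (Scheme.Modules.pushforward i) (PDfin (X := X)) (PDfin (X := Y)) hle
  have key : a.comp φX = (φY.comp eY.symm.toAddMonoidHom).comp (Φ.comp eX.toAddMonoidHom) :=
    KRRAmple.addMonoidHom_ext_cl fun F hF => by
      show a (φX (KRR.cl X F)) = φY (eY.symm (Φ (eX (KRR.cl X F))))
      rw [pushCl_clP hYe i hi ha hF, show eX (KRR.cl X F) = KZero.clSub PDfin F from
        (exists_equiv_PDfin hXe).choose_spec F hF,
        show Φ (KZero.clSub PDfin F) = _ from mapSub_cl _ _ _ hle (pdFin_zero hF)]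
      rfl
  refine (DFunLike.congr_fun key (clP hXe M)).trans ?_
  show φY (eY.symm (Φ (eX (eX.symm (KZero.clSub PDfin M))))) = _
  rw [eX.apply_symm_apply, show Φ (KZero.clSub PDfin M) = _ from mapSub_cl _ _ _ hle hM]
  rfl

end KVal

variable {r : ℕ} {Y : Scheme.{u}} [IsNoetherian Y]

theorem van_zero_of_rvan [IsLocallyNoetherian (KRR.PY r Y)] {M : (KRR.PY r Y).Modules}
    (h : RVan (KRR.pr r Y) M) (q : ℤ) (hq : 1 ≤ q) : Van r Y q 0 M := by
  obtain ⟨z⟩ := nonempty_T_zero r Y
  exact rvan_iso (KRR.pr r Y) (z.app M).symm h q hq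

/-- The push-forward on modules of finite projective dimension without higher direct images. -/
theorem pushPr_clP [IsLocallyNoetherian (KRR.PY r Y)] (hPe : KRR.HasEnoughLocFree (KRR.PY r Y))
    (hYe : KRR.HasEnoughLocFree Y) {KP : Type v} {KY : Type w} [CommRing KP] [CommRing KY]
    {φP : SGA6.Kvb (KRR.PY r Y) →+ KP} {φY : SGA6.Kvb Y →+ KY} {b : KP →+ KY} (hb : KRR.IsPushPr r Y φP φY b)
    {G : (KRR.PY r Y).Modules} (hG : PDfin G) (hv : RVan (KRR.pr r Y) G) :
    PDfin ((Scheme.Modules.pushforward (KRR.pr r Y)).obj G) ∧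
      b (φP (clP hPe G)) = φY (clP hYe ((Scheme.Modules.pushforward (KRR.pr r Y)).obj G)) :=
  push_value hPe hYe hb _ (exists_equiv_PDfin hPe).choose_spec _ (exists_equiv_PDfin hYe).choose_spec hG
    (van_zero_of_rvan hv)

/-- `f_K [F] = [f_* F]` for acyclic `F`. -/
theorem push_formula {X : Scheme.{u}} (hPe : KRR.HasEnoughLocFree (KRR.PY r Y))
    [IsLocallyNoetherian (KRR.PY r Y)] [CompactSpace X] (hYe : KRR.HasEnoughLocFree Y)
    (i : X ⟶ KRR.PY r Y) (hi : Mor2.IsRegularClosedImmersion i) {f : X ⟶ Y} (hf : i ≫ KRR.pr r Y = f)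
    {KX : Type v} {KP : Type w} {KY : Type z} [CommRing KX] [CommRing KP] [CommRing KY]
    {φX : SGA6.Kvb X →+ KX} {φP : SGA6.Kvb (KRR.PY r Y) →+ KP} {φY : SGA6.Kvb Y →+ KY}
    {a : KX →+ KP} (ha : KRR.IsPushCl i φX φP a) {b : KP →+ KY} (hb : KRR.IsPushPr r Y φP φY b)
    {F : X.Modules} (hF : FlatMod.IsFinLocFree F) (hv : RVan f F) :
    PDfin ((Scheme.Modules.pushforward f).obj F) ∧
      b (a (φX (KRR.cl X F))) = φY (clP hYe ((Scheme.Modules.pushforward f).obj F)) := by
  subst hf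
  haveI := hi.1
  haveI := (PullbackMod.isQCoh_and_isFP_of_isFinLocFree F hF).1
  obtain ⟨h1, h2⟩ := pushPr_clP hPe hYe hb (pdFin_pushforward i hi F hF)
    ((rvan_comp_iff (KRR.pr r Y) (rvan_affine i F)).1 hv)
  let e := (Scheme.Modules.pushforwardComp i (KRR.pr r Y)).app F
  refine ⟨(clSub_iso_PDfin e h1).1, ?_⟩
  rw [pushCl_clP hPe i hi ha hF, h2, clP_iso hYe e h1]
  rfl

/-- Large twists of a module of finite projective dimension are acyclic. -/
theorem eventually_rvan [IsLocallyNoetherian (KRR.PY r Y)] (hPe : KRR.HasEnoughLocFree (KRR.PY r Y)) :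
    ∀ (n : ℕ) (G : (KRR.PY r Y).Modules), PD n G →
      ∃ m : ℕ, ∀ j : ℕ, m ≤ j → ∀ q : ℤ, 1 ≤ q → Van r Y q j G
  | 0, G, h => by
    obtain ⟨m, hm⟩ := exists_pos_bound (r := r) ((pd_zero_iff _).1 h)
    exact ⟨m, fun j hj q hq => by
      simpa using (van_T (show (j : ℤ) + 0 = j by simp) G).1 (van_of_isReg (hm j hj).2 hq (by omega))⟩
  | n + 1, G, h => by
    obtain ⟨E, p, hE, hp⟩ := hPe G h.1
    haveI := hp
    obtain ⟨m₁, hm₁⟩ := eventually_rvan hPe n (kernel p)
      (PD.X₁ (K0ResLib.kerSC_shortExact p) (((pd_zero_iff _).2 hE).mono (Nat.zero_le n)) h)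
    obtain ⟨m₂, hm₂⟩ := eventually_rvan hPe 0 E ((pd_zero_iff _).2 hE)
    exact ⟨max m₁ m₂, fun j hj q hq =>
      van₃ (K0ResLib.kerSC_shortExact p) q j (hm₂ j (by omega) q hq) (hm₁ j (by omega) (q + 1) (by omega))⟩

/-- Large twists of a bundle are acyclic for the composite. -/
theorem eventually_rvan_twist {X : Scheme.{u}} [IsLocallyNoetherian (KRR.PY r Y)] [CompactSpace X]
    (hPe : KRR.HasEnoughLocFree (KRR.PY r Y)) (i : X ⟶ KRR.PY r Y) (hi : Mor2.IsRegularClosedImmersion i)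
    {f : X ⟶ Y} (hf : i ≫ KRR.pr r Y = f) {F : X.Modules} (hF : FlatMod.IsFinLocFree F) :
    ∃ m : ℕ, ∀ j : ℕ, m ≤ j → RVan f (CohB1.tensorMod F ((Scheme.Modules.pullback i).obj (O r Y j))) := by
  subst hf
  haveI := hi.1
  obtain ⟨n, hn⟩ := pdFin_pushforward i hi F hF
  obtain ⟨m, hm⟩ := eventually_rvan hPe n _ hn
  refine ⟨m, fun j hj => ?_⟩
  have hflf := isFinLocFree_tensor hF (PullbackMod.isFinLocFree_pullback i _ (isFinLocFree_O r Y (j : ℤ)))
  haveI : Coh.IsQCoh (CohB1.tensorMod F ((Scheme.Modules.pullback i).obj (O r Y (j : ℤ)))) :=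
    (PullbackMod.isQCoh_and_isFP_of_isFinLocFree _ hflf).1
  refine (rvan_comp_iff (KRR.pr r Y) (rvan_affine i _)).2 ?_
  refine rvan_iso _ (AmpleLib.comm _ _ ≪≫ projIso i F (O r Y j)) ?_
  intro q hq
  exact hm j hj q hq

/-- A class lies in a subgroup containing the large twists. -/
theorem cl_mem_of_twists {X : Scheme.{u}} (h : X ⟶ KRR.PY r Y) (H : AddSubgroup (SGA6.Kvb X)) {F : X.Modules}
    (hF : FlatMod.IsFinLocFree F) {m : ℕ}
    (hm : ∀ j : ℕ, m ≤ j → KRR.cl X (CohB1.tensorMod F ((Scheme.Modules.pullback h).obj (O r Y j))) ∈ H) :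
    KRR.cl X F ∈ H := by
  obtain ⟨p, hp⟩ := exists_pullVb h
  let θ : SGA6.Kvb (KRR.PY r Y) →+ SGA6.Kvb X ⧸ H := (QuotientAddGroup.mk' H).comp ((KVb.tenHom F).comp p)
  let P0 := Coh.structureModule (KRR.PY r Y)
  have hO : FlatMod.IsFinLocFree P0 := BCLib.isFinLocFree_structureModule _
  have hθ : ∀ E : (KRR.PY r Y).Modules, FlatMod.IsFinLocFree E →
      θ (KRR.cl _ E) = QuotientAddGroup.mk (KRR.cl X (CohB1.tensorMod F ((Scheme.Modules.pullback h).obj E))) := by
    intro E hE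
    have hE' := PullbackMod.isFinLocFree_pullback h E hE
    show QuotientAddGroup.mk (KVb.tenHom F (p (KRR.cl _ E))) = _
    rw [hp E hE, KVb.tenHom_cl hE' hF]
    exact congrArg _ (KRRAmple.cl_iso (AmpleLib.comm _ _) (isFinLocFree_tensor hF hE'))
  have h1 : θ (KRR.cl _ P0) = 0 := by
    have e := ((allData r Y).inv_eq_val hO fun j => isFinLocFree_T _ hO).symm.trans
      ((allData r Y).inv_eq hO (m := m) fun j _ => isFinLocFree_T _ hO)
    rw [show KRR.cl _ P0 = _ from e, Recur.ext_map, Recur.ext_congr (r + 1) m (w := (0 : ℕ → SGA6.Kvb X ⧸ H))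
      fun j hj => ?_]
    · exact ((Recur.ext_map (r + 1) (0 : SGA6.Kvb X →+ SGA6.Kvb X ⧸ H) m (fun _ => 0)).symm.trans rfl)
    · show θ (KRR.cl _ ((T r Y (j : ℤ)).obj P0)) = 0
      rw [hθ _ (isFinLocFree_T _ hO), QuotientAddGroup.eq_zero_iff]
      have hOj := isFinLocFree_O r Y (j : ℤ)
      have e' : CohB1.tensorMod F ((Scheme.Modules.pullback h).obj (O r Y (j : ℤ))) ≅
          CohB1.tensorMod F ((Scheme.Modules.pullback h).obj ((T r Y (j : ℤ)).obj P0)) :=
        AmpleLib.tIso (Iso.refl F) ((Scheme.Modules.pullback h).mapIso (AmpleLib.unitR (O r Y (j : ℤ))).symm)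
      rw [KRRAmple.cl_iso e' (isFinLocFree_tensor hF (PullbackMod.isFinLocFree_pullback h _ hOj))]
      exact hm j hj
  rw [hθ _ hO, QuotientAddGroup.eq_zero_iff,
    KRRAmple.cl_iso ((AmpleLib.unitR F).symm ≪≫ AmpleLib.tIso (Iso.refl F) (AmpleLib.pullO h).symm) hF] at h1
  exact h1

end Groth.Agent.KPush
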