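import Groth.Agent.KPushLib.Main
import Groth.Agent.RegSeqSlice.Section
import Groth.Agent.RelDivLib.FlatBC
import Groth.Agent.GenSeesawLib.ProjFibre
import Groth.Agent.RegLib.BaseChange

/-!
# Push-forwards along factorisations through projective spaces
-/

set_option autoImplicit false
set_option backward.isDefEq.respectTransparency false
set_option linter.style.haveILetI false
set_option linter.unusedSectionVars false
set_option maxHeartbeats 1000000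

universe v u

open CategoryTheory CategoryTheory.Limits AlgebraicGeometry TopologicalSpace
open Groth.Agent.DCohLib Groth.Agent.DCohMore

attribute [local instance] HasDerivedCategory.standard

noncomputable section

namespace Groth.Agent.KPush

open Groth.Agent.DCohMore.TwistOver Groth.Agent.RegLib Groth.Agent.KRRAmple

theorem isRegular_section {n : ℕ} {Y : Scheme.{u}} (s : Y ⟶ KRR.PY n Y) (hs : s ≫ KRR.pr n Y = 𝟙 Y) :
    Mor2.IsRegularClosedImmersion s := by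
  haveI := ProjSmoothLib.smooth_toSpec n (ULift.{u} ℤ)
  haveI : Smooth (KRR.pr n Y) := MorphismProperty.pullback_snd _ _ inferInstance
  haveI : IsProper (KRR.pr n Y) := BCLib.isProper_toBase n _
  haveI : IsClosedImmersion (s ≫ KRR.pr n Y) := by rw [hs]; infer_instance
  haveI : IsClosedImmersion s := IsClosedImmersion.of_comp s (KRR.pr n Y)
  exact RegSeqSlice.isRegularClosedImmersion_section (KRR.pr n Y) s hs

theorem enough_of_section {n : ℕ} {Y : Scheme.{u}} [IsNoetherian Y] (hPe : KRR.HasEnoughLocFree (KRR.PY n Y))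
    (s : Y ⟶ KRR.PY n Y) [IsClosedImmersion s] : KRR.HasEnoughLocFree Y := fun F hF => by
  haveI := isNoetherian_PY n Y
  obtain ⟨E, p, hE, hp⟩ := hPe _ (DevLib.isCoh_pushforward_closed s hF)
  haveI := hp
  haveI := isIso_counit_closedImmersion s F
  haveI : PreservesColimitsOfSize.{u, u} (Scheme.Modules.pullback s) :=
    (Scheme.Modules.pullbackPushforwardAdjunction s).leftAdjoint_preservesColimits
  haveI : PreservesColimitsOfSize.{0, 0} (Scheme.Modules.pullback s) := preservesColimitsOfSize_shrink _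
  haveI : Epi ((Scheme.Modules.pullback s).map p) := inferInstance
  exact ⟨_, (Scheme.Modules.pullback s).map p ≫ (Scheme.Modules.pullbackPushforwardAdjunction s).counit.app F,
    PullbackMod.isFinLocFree_pullback s E hE, epi_comp _ _⟩

/-- `p_K ∘ s_K = id` for a section. -/
theorem pushPr_comp_section {n : ℕ} {Y : Scheme.{u}} [IsNoetherian Y] (hPe : KRR.HasEnoughLocFree (KRR.PY n Y))
    (s : Y ⟶ KRR.PY n Y) (hs : s ≫ KRR.pr n Y = 𝟙 Y) {KP KY : Type v} [CommRing KP] [CommRing KY]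
    {φP : SGA6.Kvb (KRR.PY n Y) →+ KP} {φY : SGA6.Kvb Y →+ KY} (hφY : Function.Surjective φY)
    {gs : KY →+ KP} (hgs : KRR.IsPushCl s φY φP gs) {gp : KP →+ KY} (hgp : KRR.IsPushPr n Y φP φY gp) :
    gp.comp gs = AddMonoidHom.id KY := by
  haveI := isNoetherian_PY n Y
  have hreg := isRegular_section s hs
  haveI := hreg.1
  have hYe := enough_of_section hPe s
  have key : (gp.comp gs).comp φY = φY := KRRAmple.addMonoidHom_ext_cl fun F hF => by
    haveI := (PullbackMod.isQCoh_and_isFP_of_isFinLocFree F hF).1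
    obtain ⟨hpd, h⟩ := push_formula hPe hYe s hreg hs hgs hgp hF (rvan_affine (𝟙 Y) F)
    show gp (gs (φY (KRR.cl Y F))) = _
    rw [h, ← clP_iso hYe ((Scheme.Modules.pushforwardId Y).app F) hpd]
    exact congrArg φY (clP_flf hYe hF)
  refine AddMonoidHom.ext fun y => ?_
  obtain ⟨x, rfl⟩ := hφY y
  exact DFunLike.congr_fun key x

theorem isRegular_projSpaceMap (n : ℕ) {X Y : Scheme.{u}} (i : X ⟶ Y) (hi : Mor2.IsRegularClosedImmersion i) :
    Mor2.IsRegularClosedImmersion (KRR.projSpaceMap n i) := by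
  haveI : Flat (KRR.pr n Y) := GenSeesawLib.flat_toBase n Y
  have sq := (RegLib.isPullback_projSpaceMap (r := n) i).flip
  haveI := hi.1
  haveI : IsClosedImmersion (KRR.projSpaceMap n i) :=
    MorphismProperty.of_isPullback (P := @IsClosedImmersion) sq hi.1
  refine ⟨inferInstance, fun z' => ?_⟩
  obtain ⟨U, hU, hzU, rs, hrs, hk⟩ := hi.2 (KRR.pr n X z')
  rw [Scheme.Hom.ker_apply] at hk
  obtain ⟨V, hzV, -, rs', hrs', hk'⟩ :=
    RelDivLib.exists_regular_pullback sq hU inferInstance rs hrs hk z' hzU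
  exact ⟨V.1, V.2, hzV, rs', hrs', (Scheme.Hom.ker_apply _ _).trans hk'⟩

/-- Push-forwards commute with the projections. -/
theorem pushCl_comp_pushPr (n : ℕ) {X Y : Scheme.{u}} (i : X ⟶ Y) (hi : Mor2.IsRegularClosedImmersion i)
    [IsNoetherian X] [IsNoetherian Y] (hYe : KRR.HasEnoughLocFree Y) (hPe : KRR.HasEnoughLocFree (KRR.PY n Y))
    {KX KY KPX KPY : Type v} [CommRing KX] [CommRing KY] [CommRing KPX] [CommRing KPY]
    {φX : SGA6.Kvb X →+ KX} {φY : SGA6.Kvb Y →+ KY} {φPX : SGA6.Kvb (KRR.PY n X) →+ KPX}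
    {φPY : SGA6.Kvb (KRR.PY n Y) →+ KPY} (hφ : Function.Surjective φPX)
    {gi : KX →+ KY} (hgi : KRR.IsPushCl i φX φY gi) {gj : KPX →+ KPY}
    (hgj : KRR.IsPushCl (KRR.projSpaceMap n i) φPX φPY gj) {gX : KPX →+ KX} (hgX : KRR.IsPushPr n X φPX φX gX)
    {gY : KPY →+ KY} (hgY : KRR.IsPushPr n Y φPY φY gY) : gi.comp gX = gY.comp gj := by
  haveI := isNoetherian_PY n X
  haveI := isNoetherian_PY n Y
  haveI := hi.1
  have hj := isRegular_projSpaceMap n i hi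
  have key : (gi.comp gX).comp φPX = (gY.comp gj).comp φPX := hom_ext_window (r := n) fun k hk M hM => by
    let F := pullT n X (-(k : ℤ)) M
    have hF : FlatMod.IsFinLocFree F := isFinLocFree_pullT _ hM
    have hac : ∀ q : ℤ, 1 ≤ q → Van n X q 0 F := fun q hq => by
      simpa using van_pullT (r := n) (-(k : ℤ)) (by omega) hM 0 q hq
    have hpF : FlatMod.IsFinLocFree ((Scheme.Modules.pushforward (KRR.pr n X)).obj F) := IsAcyclic.push ⟨hF, hac⟩
    haveI := (PullbackMod.isQCoh_and_isFP_of_isFinLocFree _ hpF).1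
    have hv : RVan (KRR.pr n X) F := by
      obtain ⟨z⟩ := nonempty_T_zero n X
      exact rvan_iso _ (z.app F) (fun q hq => hac q hq)
    obtain ⟨-, h⟩ := push_formula hPe hYe (KRR.projSpaceMap n i) hj (RegLib.projSpaceMap_pr i) hgj hgY hF
      ((rvan_comp_iff i hv).2 (rvan_affine i _))
    show gi (gX (φPX (KRR.cl _ F))) = gY (gj (φPX (KRR.cl _ F)))
    rw [h, push_pullT hgX _ (by omega) hM, pushCl_clP hYe i hi hgi hpF,
      clP_iso hYe ((Scheme.Modules.pushforwardComp (KRR.pr n X) i).app F) (pdFin_pushforward i hi _ hpF)]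
    rfl
  refine AddMonoidHom.ext fun y => ?_
  obtain ⟨x, rfl⟩ := hφ y
  exact DFunLike.congr_fun key x

/-- Two factorisations give the same push-forward. -/
theorem push_independent {n m : ℕ} {X Y : Scheme.{u}} [IsNoetherian Y] (hYe : KRR.HasEnoughLocFree Y)
    (hne : KRR.HasEnoughLocFree (KRR.PY n Y)) (hme : KRR.HasEnoughLocFree (KRR.PY m Y))
    {f : X ⟶ Y} {i₁ : X ⟶ KRR.PY n Y} {i₂ : X ⟶ KRR.PY m Y} (h₁ : Mor2.IsRegularClosedImmersion i₁)
    (h₂ : Mor2.IsRegularClosedImmersion i₂) (hf₁ : i₁ ≫ KRR.pr n Y = f) (hf₂ : i₂ ≫ KRR.pr m Y = f)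
    {KX KY K₁ K₂ : Type v} [CommRing KX] [CommRing KY] [CommRing K₁] [CommRing K₂]
    {φX : SGA6.Kvb X →+ KX} {φY : SGA6.Kvb Y →+ KY} {φ₁ : SGA6.Kvb (KRR.PY n Y) →+ K₁}
    {φ₂ : SGA6.Kvb (KRR.PY m Y) →+ K₂} (hφ : Function.Surjective φX)
    {a₁ : KX →+ K₁} (ha₁ : KRR.IsPushCl i₁ φX φ₁ a₁) {b₁ : K₁ →+ KY} (hb₁ : KRR.IsPushPr n Y φ₁ φY b₁)
    {a₂ : KX →+ K₂} (ha₂ : KRR.IsPushCl i₂ φX φ₂ a₂) {b₂ : K₂ →+ KY} (hb₂ : KRR.IsPushPr m Y φ₂ φY b₂) :
    b₁.comp a₁ = b₂.comp a₂ := by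
  haveI := isNoetherian_PY n Y
  haveI := isNoetherian_PY m Y
  haveI := h₁.1
  haveI : CompactSpace X := QuasiCompact.compactSpace_of_compactSpace i₁
  have key : (b₁.comp a₁).comp φX = (b₂.comp a₂).comp φX := KRRAmple.addMonoidHom_ext_cl fun F hF => by
    obtain ⟨M, hM⟩ := eventually_rvan_twist hne i₁ h₁ hf₁ hF
    refine cl_mem_of_twists i₁ (((b₁.comp a₁).comp φX).eqLocus ((b₂.comp a₂).comp φX)) hF (m := M) fun j hj => ?_
    have hflf := isFinLocFree_tensor hF (PullbackMod.isFinLocFree_pullback i₁ _ (isFinLocFree_O n Y (j : ℤ)))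
    obtain ⟨-, e₁⟩ := push_formula hne hYe i₁ h₁ hf₁ ha₁ hb₁ hflf (hM j hj)
    obtain ⟨-, e₂⟩ := push_formula hme hYe i₂ h₂ hf₂ ha₂ hb₂ hflf (hM j hj)
    exact e₁.trans e₂.symm
  refine AddMonoidHom.ext fun y => ?_
  obtain ⟨x, rfl⟩ := hφ y
  exact DFunLike.congr_fun key x

/-- Acyclic direct images on the intermediate scheme stay acyclic after large twists. -/
theorem rvan_push_twist {m : ℕ} {X Y Z : Scheme.{u}} [IsNoetherian Z]
    {f : X ⟶ Y} (j : Y ⟶ KRR.PY m Z) [IsClosedImmersion j] {G : X.Modules} (b : ℕ)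
    (h : ∀ q : ℤ, 1 ≤ q → Van m Z q b ((Scheme.Modules.pushforward j).obj ((Scheme.Modules.pushforward f).obj G))) :
    RVan (KRR.pr m Z) ((Scheme.Modules.pushforward j).obj ((Scheme.Modules.pushforward f).obj
      (CohB1.tensorMod G ((Scheme.Modules.pullback f).obj ((Scheme.Modules.pullback j).obj (O m Z (b : ℤ))))))) := by
  have hB : FlatMod.IsFinLocFree ((Scheme.Modules.pullback j).obj (O m Z (b : ℤ))) :=
    PullbackMod.isFinLocFree_pullback j _ (isFinLocFree_O m Z (b : ℤ))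
  haveI := isIso_projMap_of_flf f hB G
  refine rvan_iso _ ((AmpleLib.comm _ _) ≪≫ projIso j ((Scheme.Modules.pushforward f).obj G) (O m Z (b : ℤ)) ≪≫
    (Scheme.Modules.pushforward j).mapIso (asIso (projMap f G _))) ?_
  intro p hp
  exact h p hp

/-- The composition rule on one acyclic bundle. -/
theorem push_comp_cl {n m l : ℕ} {X Y Z : Scheme.{u}} [IsNoetherian Y] [IsNoetherian Z] [CompactSpace X]
    [IsLocallyNoetherian (KRR.PY n Y)] [IsLocallyNoetherian (KRR.PY m Z)] [IsLocallyNoetherian (KRR.PY l Z)]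
    (hYe : KRR.HasEnoughLocFree Y) (hZe : KRR.HasEnoughLocFree Z) (hne : KRR.HasEnoughLocFree (KRR.PY n Y))
    (hme : KRR.HasEnoughLocFree (KRR.PY m Z)) (hle : KRR.HasEnoughLocFree (KRR.PY l Z))
    {f : X ⟶ Y} {g : Y ⟶ Z} {i : X ⟶ KRR.PY n Y} (hi : Mor2.IsRegularClosedImmersion i) (hf : i ≫ KRR.pr n Y = f)
    {j : Y ⟶ KRR.PY m Z} (hj : Mor2.IsRegularClosedImmersion j) (hg : j ≫ KRR.pr m Z = g)
    {k : X ⟶ KRR.PY l Z} (hk : Mor2.IsRegularClosedImmersion k) (hfg : k ≫ KRR.pr l Z = f ≫ g)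
    {KX KY KZ K₁ K₂ K₃ : Type v} [CommRing KX] [CommRing KY] [CommRing KZ] [CommRing K₁] [CommRing K₂] [CommRing K₃]
    {φX : SGA6.Kvb X →+ KX} {φY : SGA6.Kvb Y →+ KY} {φZ : SGA6.Kvb Z →+ KZ}
    {φ₁ : SGA6.Kvb (KRR.PY n Y) →+ K₁} {φ₂ : SGA6.Kvb (KRR.PY m Z) →+ K₂} {φ₃ : SGA6.Kvb (KRR.PY l Z) →+ K₃}
    {a₁ : KX →+ K₁} (ha₁ : KRR.IsPushCl i φX φ₁ a₁) {b₁ : K₁ →+ KY} (hb₁ : KRR.IsPushPr n Y φ₁ φY b₁)
    {a₂ : KY →+ K₂} (ha₂ : KRR.IsPushCl j φY φ₂ a₂) {b₂ : K₂ →+ KZ} (hb₂ : KRR.IsPushPr m Z φ₂ φZ b₂)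
    {a₃ : KX →+ K₃} (ha₃ : KRR.IsPushCl k φX φ₃ a₃) {b₃ : K₃ →+ KZ} (hb₃ : KRR.IsPushPr l Z φ₃ φZ b₃)
    {G : X.Modules} (hG : FlatMod.IsFinLocFree G) (hv : RVan f G)
    (hr : RVan (KRR.pr m Z) ((Scheme.Modules.pushforward j).obj ((Scheme.Modules.pushforward f).obj G))) :
    b₃ (a₃ (φX (KRR.cl X G))) = b₂ (a₂ (b₁ (a₁ (φX (KRR.cl X G))))) := by
  haveI := hj.1
  obtain ⟨hpd, h₁⟩ := push_formula hne hYe i hi hf ha₁ hb₁ hG hv
  obtain ⟨q, hq⟩ := hpd
  have hjM := pdFin_push_pdFin j hj hYe q _ hq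
  haveI : Coh.IsQCoh ((Scheme.Modules.pushforward f).obj G) := hq.1.1
  obtain ⟨h₄, h₂⟩ := pushPr_clP hme hZe hb₂ hjM hr
  have hrg : RVan g ((Scheme.Modules.pushforward f).obj G) :=
    rvan_congr hg ((rvan_comp_iff (KRR.pr m Z) (rvan_affine j _)).2 hr)
  obtain ⟨-, h₃⟩ := push_formula hle hZe k hk hfg ha₃ hb₃ hG ((rvan_comp_iff g hv).2 hrg)
  rw [h₁, h₃, pushCl_clP_pd hme j hj hYe ha₂ ⟨q, hq⟩, h₂]
  refine congrArg φZ (clP_iso hZe ?_ h₄)
  exact (Scheme.Modules.pushforwardComp j (KRR.pr m Z)).app _ ≪≫ (Scheme.Modules.pushforwardCongr hg).app _ ≪≫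
    (Scheme.Modules.pushforwardComp f g).app G

/-- Push-forwards compose. -/
theorem push_comp {n m l : ℕ} {X Y Z : Scheme.{u}} [IsNoetherian Y] [IsNoetherian Z]
    (hYe : KRR.HasEnoughLocFree Y) (hZe : KRR.HasEnoughLocFree Z) (hne : KRR.HasEnoughLocFree (KRR.PY n Y))
    (hme : KRR.HasEnoughLocFree (KRR.PY m Z)) (hle : KRR.HasEnoughLocFree (KRR.PY l Z))
    {f : X ⟶ Y} {g : Y ⟶ Z} {i : X ⟶ KRR.PY n Y} (hi : Mor2.IsRegularClosedImmersion i) (hf : i ≫ KRR.pr n Y = f)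
    {j : Y ⟶ KRR.PY m Z} (hj : Mor2.IsRegularClosedImmersion j) (hg : j ≫ KRR.pr m Z = g)
    {k : X ⟶ KRR.PY l Z} (hk : Mor2.IsRegularClosedImmersion k) (hfg : k ≫ KRR.pr l Z = f ≫ g)
    {KX KY KZ K₁ K₂ K₃ : Type v} [CommRing KX] [CommRing KY] [CommRing KZ] [CommRing K₁] [CommRing K₂] [CommRing K₃]
    {φX : SGA6.Kvb X →+ KX} {φY : SGA6.Kvb Y →+ KY} {φZ : SGA6.Kvb Z →+ KZ}
    {φ₁ : SGA6.Kvb (KRR.PY n Y) →+ K₁} {φ₂ : SGA6.Kvb (KRR.PY m Z) →+ K₂} {φ₃ : SGA6.Kvb (KRR.PY l Z) →+ K₃}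
    (hφ : Function.Surjective φX)
    {a₁ : KX →+ K₁} (ha₁ : KRR.IsPushCl i φX φ₁ a₁) {b₁ : K₁ →+ KY} (hb₁ : KRR.IsPushPr n Y φ₁ φY b₁)
    {a₂ : KY →+ K₂} (ha₂ : KRR.IsPushCl j φY φ₂ a₂) {b₂ : K₂ →+ KZ} (hb₂ : KRR.IsPushPr m Z φ₂ φZ b₂)
    {a₃ : KX →+ K₃} (ha₃ : KRR.IsPushCl k φX φ₃ a₃) {b₃ : K₃ →+ KZ} (hb₃ : KRR.IsPushPr l Z φ₃ φZ b₃) :
    b₃.comp a₃ = (b₂.comp a₂).comp (b₁.comp a₁) := by
  haveI := isNoetherian_PY n Y
  haveI := isNoetherian_PY m Z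
  haveI := isNoetherian_PY l Z
  haveI := hi.1
  haveI := hj.1
  haveI : CompactSpace X := QuasiCompact.compactSpace_of_compactSpace i
  have key : (b₃.comp a₃).comp φX = ((b₂.comp a₂).comp (b₁.comp a₁)).comp φX := by
    refine KRRAmple.addMonoidHom_ext_cl fun F hF => ?_
    obtain ⟨M, hM⟩ := eventually_rvan_twist hne i hi hf hF
    refine cl_mem_of_twists i (((b₃.comp a₃).comp φX).eqLocus (((b₂.comp a₂).comp (b₁.comp a₁)).comp φX)) hF
      (m := M) fun a ha => ?_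
    have hG : FlatMod.IsFinLocFree (CohB1.tensorMod F ((Scheme.Modules.pullback i).obj (O n Y (a : ℤ)))) :=
      isFinLocFree_tensor hF (PullbackMod.isFinLocFree_pullback i _ (isFinLocFree_O n Y (a : ℤ)))
    obtain ⟨hpd, -⟩ := push_formula hne hYe i hi hf ha₁ hb₁ hG (hM a ha)
    obtain ⟨q, hq⟩ := hpd
    obtain ⟨q', hq'⟩ := pdFin_push_pdFin j hj hYe q _ hq
    obtain ⟨M', hM'⟩ := eventually_rvan hme q' _ hq'
    refine cl_mem_of_twists (f ≫ j) _ hG (m := M') fun b hb => ?_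
    have hB : FlatMod.IsFinLocFree ((Scheme.Modules.pullback j).obj (O m Z (b : ℤ))) :=
      PullbackMod.isFinLocFree_pullback j _ (isFinLocFree_O m Z (b : ℤ))
    have hG' := isFinLocFree_tensor hG (PullbackMod.isFinLocFree_pullback f _ hB)
    rw [KRRAmple.cl_iso (AmpleLib.tIso (Iso.refl _) ((Scheme.Modules.pullbackComp f j).app _)) hG']
    exact push_comp_cl hYe hZe hne hme hle hi hf hj hg hk hfg ha₁ hb₁ ha₂ hb₂ ha₃ hb₃ hG'
      (rvan_tensor_pullback f (hM a ha) hB) (rvan_push_twist j b (hM' b hb))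
  refine AddMonoidHom.ext fun y => ?_
  obtain ⟨x, rfl⟩ := hφ y
  exact DFunLike.congr_fun key x

end Groth.Agent.KPush
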