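import Groth.Agent.KRRAmple.Euler
import Groth.Agent.AmpleLib.Tensor
import Groth.Agent.RegLib.Koszul

/-!
# Exact complexes from sections of a line bundle without common zero
-/

set_option autoImplicit false
set_option backward.isDefEq.respectTransparency false
set_option linter.style.haveILetI false
set_option linter.unusedSectionVars false
set_option maxHeartbeats 1000000

universe u

open CategoryTheory CategoryTheory.Limits AlgebraicGeometry
open Groth.Agent.DCohLib Groth.Agent.AmpleLib Groth.Agent.ParaFLib Groth.Agent.PullbackMod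

attribute [local instance] HasDerivedCategory.standard

noncomputable section

namespace Groth.Agent.KPush

open KRRAmple

variable {X : Scheme.{u}}

theorem bijective_stalkLin {B : X.Modules} (hB : PicF.IsInvertible B) (s : Coh.structureModule X ⟶ B) {x : X}
    (hx : x ∈ CohB1.genLocus B s) : Function.Bijective (stalkLin s x) := by
  have h1 : stalkLin s x (oneG x) = B.presheaf.germ ⊤ x trivial (sec s) := by
    conv_lhs => rw [show s = secHom B (sec s) from (secHom_sec s).symm]
    exact stalkLin_secHom B (sec s) x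
  have h := (mem_genLocus_iff hB).1 hx
  rw [← h1] at h
  refine (Function.Bijective.of_comp_iff _ (bijective_oneG x)).1 ?_
  convert h using 1
  funext r
  exact map_smul (stalkLin s x) r (oneG x)

/-- An exact complex of bundles from sections of a line bundle covering the space. -/
theorem exists_cover_complex {B : X.Modules} (hB : PicF.IsInvertible B) {N : ℕ}
    (s : Fin N → (Coh.structureModule X ⟶ B)) (hs : ∀ x : X, ∃ t, x ∈ CohB1.genLocus B (s t))
    (Q : X.Modules → Prop) (hz : ∀ M, IsZero M → Q M) (hiso : ∀ {M M'}, (M ≅ M') → Q M → Q M')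
    (hbi : ∀ {M M'}, Q M → Q M' → Q (M ⊞ M')) (hQB : Q B) (hmul : ∀ M, Q M → Q (CohB1.tensorMod M B)) :
    ∃ E : CochainComplex X.Modules ℤ, (∀ i, E.ExactAt i) ∧ (∀ i, FlatMod.IsFinLocFree (E.X i)) ∧
      (∀ i, i < -(N : ℤ) ∨ 0 < i → IsZero (E.X i)) ∧ Nonempty (E.X (-(N : ℤ)) ≅ Coh.structureModule X) ∧
      ∀ i, i ≠ -(N : ℤ) → Q (E.X i) := by
  have hO := BCLib.isFinLocFree_structureModule X
  have hBf := CurveLib.isFinLocFree_of_isInvertible hB
  suffices hrec : ∀ k : ℕ, k ≤ N → ∃ E : CochainComplex X.Modules ℤ, (∀ i, FlatMod.IsFinLocFree (E.X i)) ∧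
      (∀ i, i < -(k : ℤ) ∨ 0 < i → IsZero (E.X i)) ∧ Nonempty (E.X (-(k : ℤ)) ≅ Coh.structureModule X) ∧
      (∀ i, i ≠ -(k : ℤ) → Q (E.X i)) ∧
      ∀ (x : X) (t : Fin N), (t : ℕ) < k → x ∈ CohB1.genLocus B (s t) → ExStalk E x by
    obtain ⟨E, h1, h2, h3, h4, h5⟩ := hrec N le_rfl
    refine ⟨E, fun i => acyclic_of_exStalk (fun x => ?_) i, h1, h2, h3, h4⟩
    obtain ⟨t, ht⟩ := hs x
    exact h5 x t t.2 ht
  intro k
  induction k with
  | zero =>
    intro _
    let E₀ := (HomologicalComplex.single X.Modules (ComplexShape.up ℤ) 0).obj (Coh.structureModule X)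
    have h0 : ∀ i, i ≠ 0 → IsZero (E₀.X i) := fun i hi =>
      HomologicalComplex.isZero_single_obj_X (ComplexShape.up ℤ) 0 _ i hi
    refine ⟨E₀, fun i => ?_, fun i hi => h0 i (by omega),
      ⟨(HomologicalComplex.singleObjXSelf (ComplexShape.up ℤ) 0 _)⟩,
      fun i hi => hz _ (h0 i (by simpa using hi)), fun x t ht => absurd ht (Nat.not_lt_zero _)⟩
    rcases eq_or_ne i 0 with rfl | hi
    · exact isFinLocFree_iso (HomologicalComplex.singleObjXSelf (ComplexShape.up ℤ) 0 _).symm hO
    · exact isFinLocFree_of_isZero (h0 i hi)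
  | succ k ih =>
    intro hk
    obtain ⟨E, hf, hzE, ⟨eb⟩, hQ, hex⟩ := ih (by omega)
    let q := s ⟨k, by omega⟩
    let A := fun i : ℤ => CohB1.tensorMod (E.X i) (Coh.structureModule X)
    let A' := fun i : ℤ => CohB1.tensorMod (E.X i) B
    let e : ∀ i, (coneTensor q E).X i ≅ A (i + 1) ⊞ A' i := fun i =>
      HomologicalComplex.homotopyCofiber.XIsoBiprod
        ((NatTrans.mapHomologicalComplex ((DCoh.tensorBi (X := X)).flip.map q) (ComplexShape.up ℤ)).app E) i (i + 1) rfl
    have hzA' : ∀ i, IsZero (E.X i) → IsZero (A' i) := fun i hi =>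
      ((DCoh.tensorBi (X := X)).flip.obj B).map_isZero hi
    refine ⟨coneTensor q E, fun i => isFinLocFree_iso (e i).symm (isFinLocFree_biprod
      (isFinLocFree_iso (unitR _).symm (hf _)) (isFinLocFree_tensor (hf _) hBf)), fun i hi => ?_, ⟨?_⟩,
      fun i hi => hiso (e i).symm (hbi ?_ ?_), fun x t ht hx => ?_⟩
    · exact ((biprod_isZero_iff _ _).2 ⟨(hzE (i + 1) (by omega)).of_iso (unitR _),
        hzA' i (hzE i (by omega))⟩).of_iso (e i)
    · have h1 : -((k + 1 : ℕ) : ℤ) + 1 = -(k : ℤ) := by push_cast; ring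
      exact e _ ≪≫ (isoBiprodZero (hzA' _ (hzE _ (Or.inl (by push_cast; omega))))).symm ≪≫ unitR _ ≪≫
        eqToIso (congrArg E.X h1) ≪≫ eb
    · exact hiso (unitR _).symm (hQ _ (by push_cast at hi; omega))
    · rcases eq_or_ne i (-(k : ℤ)) with h | h
      · subst h
        exact hiso (tIso eb (Iso.refl B) ≪≫ unitL B).symm hQB
      · exact hmul _ (hQ _ h)
    · refine exStalk_coneTensor q hO hBf ?_
      rcases Nat.lt_succ_iff_lt_or_eq.1 ht with h | h
      · exact Or.inl (hex x t h hx)
      · refine Or.inr (bijective_stalkLin hB q ?_)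
        have : t = ⟨k, by omega⟩ := Fin.ext h
        rwa [this] at hx

end Groth.Agent.KPush
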