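import Groth.Agent.KPushLib.Cover
import Groth.Agent.RegLib.KPush
import Groth.Agent.KRRAmple.PushClMul
import Groth.Agent.AmpleEmb.TwistOne

/-!
# Direct images from projective space of modules of finite projective dimension
-/

set_option autoImplicit false
set_option backward.isDefEq.respectTransparency false
set_option linter.style.haveILetI false
set_option linter.unusedSectionVars false
set_option maxHeartbeats 1000000

universe v w u

open CategoryTheory CategoryTheory.Limits AlgebraicGeometry TopologicalSpace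
open Groth.Agent.DCohLib Groth.Agent.DCohMore

attribute [local instance] HasDerivedCategory.standard

noncomputable section

namespace Groth.Agent.KPush

open Groth.Agent.DCohMore.TwistOver Groth.Agent.RegLib Groth.Agent.KRRAmple

variable {r : ℕ} {S : Scheme.{u}} [IsLocallyNoetherian S] [IsLocallyNoetherian (KRR.PY r S)]

local notation "P" => KRR.PY r S
local notation "π" => KRR.pr r S

theorem pdFin_zero {X : Scheme.{u}} [IsLocallyNoetherian X] {M : X.Modules} (h : FlatMod.IsFinLocFree M) : PDfin M :=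
  ⟨0, (pd_zero_iff _).2 h⟩

theorem pdFin_X₂ {X : Scheme.{u}} [IsLocallyNoetherian X] {E : ShortComplex X.Modules} (hE : E.ShortExact)
    (h₁ : PDfin E.X₁) (h₃ : PDfin E.X₃) : PDfin E.X₂ := by
  obtain ⟨n, h₁⟩ := h₁
  obtain ⟨m, h₃⟩ := h₃
  exact ⟨max n m, PD.X₂ hE (h₁.mono (le_max_left _ _)) (h₃.mono (le_max_right _ _))⟩

theorem pdFin_X₁ {X : Scheme.{u}} [IsLocallyNoetherian X] {E : ShortComplex X.Modules} (hE : E.ShortExact)
    (h₂ : PDfin E.X₂) (h₃ : PDfin E.X₃) : PDfin E.X₁ := by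
  obtain ⟨n, h₂⟩ := h₂
  obtain ⟨m, h₃⟩ := h₃
  exact ⟨max n m, PD.X₁ hE (h₂.mono (le_max_left _ _)) (h₃.mono (by omega))⟩

theorem pdFin_X₃ {X : Scheme.{u}} [IsLocallyNoetherian X] {E : ShortComplex X.Modules} (hE : E.ShortExact)
    (h₁ : PDfin E.X₁) (h₂ : PDfin E.X₂) : PDfin E.X₃ := by
  obtain ⟨n, h₁⟩ := h₁
  obtain ⟨m, h₂⟩ := h₂
  haveI := hE.epi_g
  refine ⟨max n m + 1, DCohLib.isCoh_iso
    (IsColimit.coconePointUniqueUpToIso (cokernelIsCokernel E.f) hE.gIsCokernel)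
    (QCohLib.isCoh_kernel_cokernel E.f h₁.1 h₂.1).2, fun x => ?_⟩
  exact (stalk_shortExact hE x).hasProjectiveDimensionLT_X₃ _ ((h₁.mono (le_max_left n m)).2 x)
    ((h₂.mono (show m ≤ max n m + 1 by omega)).2 x)

variable (χ : KZero.K0sub (PDfin (X := KRR.PY r S)) →+ KZero.K0sub (PDfin (X := S)))

/-- Acyclic modules of finite projective dimension whose direct image has finite projective dimension and the
expected class. -/
structure Good (M : (KRR.PY r S).Modules) : Prop where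
  pd : PDfin M
  van : ∀ q : ℤ, 1 ≤ q → Van r S q 0 M
  push : PDfin ((Scheme.Modules.pushforward (KRR.pr r S)).obj M)
  val : χ (KZero.clSub PDfin M) = KZero.clSub PDfin ((Scheme.Modules.pushforward (KRR.pr r S)).obj M)

variable {χ}

theorem good_isZero {M : (P).Modules} (h : IsZero M) : Good χ M where
  pd := pdFin_zero (isFinLocFree_of_isZero h)
  van q _ := van_of_module_isZero h q 0
  push := pdFin_zero (isFinLocFree_of_isZero ((Scheme.Modules.pushforward π).map_isZero h))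
  val := by
    rw [KZeroLib.clSub_isZero h, map_zero, KZeroLib.clSub_isZero ((Scheme.Modules.pushforward π).map_isZero h)]

theorem good_iso {M N : (P).Modules} (e : M ≅ N) (h : Good χ M) : Good χ N where
  pd := (clSub_iso_PDfin e h.pd).1
  van q hq := van_of_iso e (h.van q hq)
  push := (clSub_iso_PDfin ((Scheme.Modules.pushforward π).mapIso e) h.push).1
  val := by
    rw [(clSub_iso_PDfin e h.pd).2, h.val, (clSub_iso_PDfin ((Scheme.Modules.pushforward π).mapIso e) h.push).2]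

variable {E : ShortComplex (KRR.PY r S).Modules} (hE : E.ShortExact)

include hE

theorem good₂ (h₁ : Good χ E.X₁) (h₃ : Good χ E.X₃) : Good χ E.X₂ where
  pd := pdFin_X₂ hE h₁.pd h₃.pd
  van q hq := van₂ hE q 0 (h₁.van q hq) (h₃.van q hq)
  push := pdFin_X₂ (shortExact_push hE (h₁.van 1 le_rfl)) h₁.push h₃.push
  val := by
    have hS := shortExact_push hE (h₁.van 1 le_rfl)
    rw [K0ResLib.clSub_add hE h₁.pd (pdFin_X₂ hE h₁.pd h₃.pd) h₃.pd, map_add, h₁.val, h₃.val]
    exact (K0ResLib.clSub_add hS h₁.push (pdFin_X₂ hS h₁.push h₃.push) h₃.push).symm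

theorem good₁ (hv : ∀ q : ℤ, 1 ≤ q → Van r S q 0 E.X₁) (h₂ : Good χ E.X₂) (h₃ : Good χ E.X₃) : Good χ E.X₁ where
  pd := pdFin_X₁ hE h₂.pd h₃.pd
  van := hv
  push := pdFin_X₁ (shortExact_push hE (hv 1 le_rfl)) h₂.push h₃.push
  val := by
    have hS := shortExact_push hE (hv 1 le_rfl)
    have h := congrArg χ (K0ResLib.clSub_add hE (pdFin_X₁ hE h₂.pd h₃.pd) h₂.pd h₃.pd)
    rw [map_add, h₂.val, h₃.val] at h
    exact add_right_cancel (h.symm.trans (K0ResLib.clSub_add hS (pdFin_X₁ hS h₂.push h₃.push) h₂.push h₃.push))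

theorem good₃ (h₁ : Good χ E.X₁) (h₂ : Good χ E.X₂) : Good χ E.X₃ where
  pd := pdFin_X₃ hE h₁.pd h₂.pd
  van q hq := van₃ hE q 0 (h₂.van q hq) (h₁.van (q + 1) (by omega))
  push := pdFin_X₃ (shortExact_push hE (h₁.van 1 le_rfl)) h₁.push h₂.push
  val := by
    have hS := shortExact_push hE (h₁.van 1 le_rfl)
    have h := congrArg χ (K0ResLib.clSub_add hE h₁.pd h₂.pd (pdFin_X₃ hE h₁.pd h₂.pd))
    rw [map_add, h₁.val, h₂.val] at h
    exact add_left_cancel (h.symm.trans (K0ResLib.clSub_add hS h₁.push h₂.push (pdFin_X₃ hS h₁.push h₂.push)))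

omit hE

theorem good_biprod {M N : (P).Modules} (h₁ : Good χ M) (h₂ : Good χ N) : Good χ (M ⊞ N) :=
  good₂ (E := ShortComplex.mk (biprod.inl : M ⟶ M ⊞ N) biprod.snd biprod.inl_snd)
    (ShortComplex.Splitting.ofHasBinaryBiproduct M N).shortExact h₁ h₂

/-- From the positive twists by a covering line bundle to the module itself. -/
theorem good_of_pow {B : (P).Modules} (hB : PicF.IsInvertible B) {N : ℕ}
    (s : Fin N → (Coh.structureModule (P) ⟶ B)) (hs : ∀ x, ∃ t, x ∈ CohB1.genLocus B (s t))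
    {G : (P).Modules} (hv : ∀ q : ℤ, 1 ≤ q → Van r S q 0 G)
    (hpos : ∀ j : ℕ, 1 ≤ j → Good χ (CohB1.tensorMod (CohB1.tensorPow B j) G)) : Good χ G := by
  let Q : (P).Modules → Prop := fun M => ∀ G' : (P).Modules,
    (∀ j : ℕ, 1 ≤ j → Good χ (CohB1.tensorMod (CohB1.tensorPow B j) G')) → Good χ (CohB1.tensorMod M G')
  obtain ⟨C, hex, hflf, hz, ⟨eb⟩, hQ⟩ := exists_cover_complex hB s hs Q
    (fun M hM G' _ => good_isZero (((DCoh.tensorBi (X := P)).flip.obj G').map_isZero hM))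
    (fun e h G' hG' => good_iso (AmpleLib.tIso e (Iso.refl G')) (h G' hG'))
    (fun {M M'} h h' G' hG' =>
      haveI : ((DCoh.tensorBi (X := P)).flip.obj G').Additive := Groth.Agent.ModTensor.additive_tensorBi_flip _ G'
      haveI : PreservesBinaryBiproducts ((DCoh.tensorBi (X := P)).flip.obj G') :=
        preservesBinaryBiproducts_of_preservesBiproducts _
      good_iso (((DCoh.tensorBi (X := P)).flip.obj G').mapBiprod M M').symm (good_biprod (h G' hG') (h' G' hG')))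
    (fun G' hG' => good_iso (AmpleLib.tIso (AmpleLib.powOne B) (Iso.refl G')) (hG' 1 le_rfl))
    (fun M hM G' hG' => good_iso (AmpleLib.assoc M B G').symm (hM _ fun j hj =>
      good_iso (AmpleLib.assoc _ B G') (hG' (j + 1) (by omega))))
  let D := ((DCoh.tensorRightMod G).mapHomologicalComplex (ComplexShape.up ℤ)).obj C
  have hD : ∀ i, D.ExactAt i := exactAt_tensorRight G C 0 (fun n hn => hz n (Or.inr hn))
    (fun n => RegLib.isFlat_of_flf (hflf n)) hex
  have hDz : ∀ i : ℤ, i < -(N : ℤ) ∨ 0 < i → IsZero (D.X i) := fun i hi =>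
    (DCoh.tensorRightMod G).map_isZero (hz i hi)
  have hDg : ∀ i : ℤ, i ≠ -(N : ℤ) → Good χ (D.X i) := fun i hi => hQ i hi G hpos
  have hses := shortExact_cySC D hD
  have h0 : IsZero (D.cycles (-(N : ℤ))) := by
    haveI : Epi (D.toCycles (-(N : ℤ) - 1) (-(N : ℤ))) := (hses (-(N : ℤ) - 1) _ (by omega)).epi_g
    exact IsZero.of_epi (D.toCycles (-(N : ℤ) - 1) (-(N : ℤ))) (hDz _ (Or.inl (by omega)))
  let e : D.cycles (-(N : ℤ) + 1) ≅ G := by
    haveI : Epi (D.toCycles (-(N : ℤ)) (-(N : ℤ) + 1)) := (hses _ _ rfl).epi_g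
    haveI : Mono (D.toCycles (-(N : ℤ)) (-(N : ℤ) + 1)) :=
      (hses (-(N : ℤ)) (-(N : ℤ) + 1) rfl).exact.mono_g (h0.eq_of_src _ _)
    haveI : IsIso (D.toCycles (-(N : ℤ)) (-(N : ℤ) + 1)) := isIso_of_mono_of_epi _
    exact (asIso (D.toCycles (-(N : ℤ)) (-(N : ℤ) + 1))).symm ≪≫ AmpleLib.tIso eb (Iso.refl G) ≪≫
      AmpleLib.unitL G
  have hvan : ∀ k : ℕ, ∀ q : ℤ, 1 ≤ q → Van r S q 0 (D.cycles (-(N : ℤ) + 1 + k)) := by
    intro k
    induction k with
    | zero => intro q hq; simpa using van_of_iso e.symm (hv q hq)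
    | succ k ih =>
      intro q hq
      exact van₃ (hses (-(N : ℤ) + 1 + k) (-(N : ℤ) + 1 + (k + 1 : ℕ)) (by push_cast; ring)) q 0
        ((hDg _ (by omega)).van q hq) (ih (q + 1) (by omega))
  have hgood : ∀ c k : ℕ, k + c = N → Good χ (D.cycles (-(N : ℤ) + 1 + k)) := by
    intro c
    induction c with
    | zero =>
      intro k hk
      exact good_isZero (IsZero.of_mono (D.iCycles _) (hDz _ (Or.inr (by omega))))
    | succ c ih =>
      intro k hk
      exact good₁ (hses (-(N : ℤ) + 1 + k) (-(N : ℤ) + 1 + (k + 1 : ℕ)) (by push_cast; ring))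
        (hvan k) (hDg _ (by omega)) (ih (k + 1) (by omega))
  exact good_iso e (by simpa using hgood N 0 (by omega))

/-- Powers of `O(1)`. -/
theorem nonempty_pow : ∀ k : ℕ, Nonempty (CohB1.tensorPow (O r S 1) k ≅ O r S (k : ℤ))
  | 0 => by
    obtain ⟨z⟩ := nonempty_zero r S
    exact ⟨z.symm⟩
  | k + 1 => by
    obtain ⟨e⟩ := nonempty_pow k
    obtain ⟨m⟩ := nonempty_mul r S (show (k : ℤ) + 1 = ((k + 1 : ℕ) : ℤ) by push_cast; ring)
    exact ⟨AmpleLib.tIso e (Iso.refl _) ≪≫ m⟩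

variable [CompactSpace S]

theorem eventually_good (hPe : KRR.HasEnoughLocFree (KRR.PY r S))
    (hχ : ∀ M : (P).Modules, FlatMod.IsFinLocFree M → (∀ j : ℕ, ∀ q : ℤ, 1 ≤ q → Van r S q j M) → Good χ M) :
    ∀ (n : ℕ) (G : (P).Modules), PD n G → ∃ m : ℕ, ∀ j : ℕ, m ≤ j → Good χ ((T r S (j : ℤ)).obj G)
  | 0, G, h => by
    obtain ⟨m, hm⟩ := exists_pos_bound (r := r) ((pd_zero_iff _).1 h)
    exact ⟨m, fun j hj => hχ _ (hm j hj).1 fun k q hq => van_of_isReg (hm j hj).2 hq (by omega)⟩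
  | n + 1, G, h => by
    obtain ⟨E, p, hE, hp⟩ := hPe G h.1
    haveI := hp
    obtain ⟨m₁, hm₁⟩ := eventually_good hPe hχ n (kernel p)
      (PD.X₁ (K0ResLib.kerSC_shortExact p) (((pd_zero_iff _).2 hE).mono (Nat.zero_le n)) h)
    obtain ⟨m₂, hm₂⟩ := exists_pos_bound (r := r) hE
    refine ⟨max m₁ m₂, fun j hj => ?_⟩
    haveI := isEquivalence_T r S (j : ℤ)
    exact good₃ ((K0ResLib.kerSC_shortExact p).map_of_exact (T r S (j : ℤ))) (hm₁ j (by omega))
      (hχ _ (hm₂ j (by omega)).1 fun k q hq => van_of_isReg (hm₂ j (by omega)).2 hq (by omega))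

/-- Acyclic modules of finite projective dimension are good. -/
theorem good_of_acyclic (hPe : KRR.HasEnoughLocFree (KRR.PY r S))
    (hχ : ∀ M : (P).Modules, FlatMod.IsFinLocFree M → (∀ j : ℕ, ∀ q : ℤ, 1 ≤ q → Van r S q j M) → Good χ M)
    {G : (P).Modules} (hG : PDfin G) (hv : ∀ q : ℤ, 1 ≤ q → Van r S q 0 G) : Good χ G := by
  obtain ⟨n, hn⟩ := hG
  obtain ⟨m, hm⟩ := eventually_good hPe hχ n G hn
  let fp := pullback.fst (CohB1.ProjSpace.toSpec r (ULift.{u} ℤ)) (specULiftZIsTerminal.from S)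
  have h1 := AmpleEmb.isInvertible_twistOne r (ULift.{u} ℤ)
  have hO1 : PicF.IsInvertible (O r S 1) := AmpleLib.isInvertible_pullback fp h1
  refine good_of_pow (AmpleLib.isInvertible_tensorPow hO1 (m + 1))
    (fun t => AmpleLib.powS (AmpleLib.pullS fp (AmpleEmb.coordSec r (ULift.{u} ℤ) t)) (m + 1)) (fun x => ?_) hv
    fun j hj => ?_
  · obtain ⟨t, ht⟩ := Opens.mem_iSup.1 ((AmpleEmb.iSup_stdOpen r (ULift.{u} ℤ)).ge (Opens.mem_top (fp x)))
    refine ⟨t, ?_⟩
    rw [AmpleLib.genLocus_powS hO1]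
    have h2 := (AmpleLib.genLocus_pullS fp h1 (AmpleEmb.coordSec r (ULift.{u} ℤ) t)).trans
      (congrArg (fp ⁻¹ᵁ ·) (AmpleEmb.genLocus_coordSec r (ULift.{u} ℤ) t))
    exact h2.ge ht
  · obtain ⟨e⟩ := nonempty_pow (r := r) (S := S) ((m + 1) * j)
    refine good_iso ?_ (hm ((m + 1) * j) (by have := Nat.le_mul_of_pos_right (m + 1) hj; omega))
    exact AmpleLib.tIso (e.symm ≪≫ (AmpleLib.powMul (O r S 1) (m + 1) j).symm) (Iso.refl G)

/-- The value of the push-forward from projective space on acyclic modules of finite projective dimension. -/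
theorem push_value (hPe : KRR.HasEnoughLocFree (KRR.PY r S)) (hSe : KRR.HasEnoughLocFree S)
    {KP : Type v} {KY : Type w} [CommRing KP] [CommRing KY] {φP : SGA6.Kvb (KRR.PY r S) →+ KP}
    {φY : SGA6.Kvb S →+ KY} {g : KP →+ KY} (hg : KRR.IsPushPr r S φP φY g)
    (eP : SGA6.Kvb (KRR.PY r S) ≃+ KZero.K0sub (PDfin (X := KRR.PY r S)))
    (heP : ∀ M, FlatMod.IsFinLocFree M → eP (KRR.cl (KRR.PY r S) M) = KZero.clSub PDfin M)
    (eY : SGA6.Kvb S ≃+ KZero.K0sub (PDfin (X := S)))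
    (heY : ∀ M, FlatMod.IsFinLocFree M → eY (KRR.cl S M) = KZero.clSub PDfin M)
    {G : (P).Modules} (hG : PDfin G) (hv : ∀ q : ℤ, 1 ≤ q → Van r S q 0 G) :
    PDfin ((Scheme.Modules.pushforward π).obj G) ∧ g (φP (eP.symm (KZero.clSub PDfin G))) =
      φY (eY.symm (KZero.clSub PDfin ((Scheme.Modules.pushforward π).obj G))) := by
  obtain ⟨φ, hφ⟩ := exists_pushK (r := r) (S := S)
  let χ₀ : KZero.K0sub (PDfin (X := KRR.PY r S)) →+ KZero.K0sub (PDfin (X := S)) :=
    eY.toAddMonoidHom.comp (φ.comp eP.symm.toAddMonoidHom)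
  have hχ : ∀ M : (P).Modules, FlatMod.IsFinLocFree M → (∀ j : ℕ, ∀ q : ℤ, 1 ≤ q → Van r S q j M) →
      Good χ₀ M := fun M hM h => by
    have hp : FlatMod.IsFinLocFree ((Scheme.Modules.pushforward π).obj M) :=
      IsAcyclic.push ⟨hM, fun q hq => by simpa using h 0 q hq⟩
    refine ⟨pdFin_zero hM, fun q hq => by simpa using h 0 q hq, pdFin_zero hp, ?_⟩
    show eY (φ (eP.symm (KZero.clSub PDfin M))) = _
    rw [← heP M hM, eP.symm_apply_apply, hφ M hM h, heY _ hp]
  have hgood := good_of_acyclic hPe hχ hG hv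
  refine ⟨hgood.push, ?_⟩
  have hcomp : g.comp φP = φY.comp φ := hom_ext_window (r := r) fun k hk M hM =>
    (push_pullT hg _ (by omega) hM).trans (congrArg φY
      (hφ _ (isFinLocFree_pullT _ hM) fun j q hq => van_pullT _ (by omega) hM j q hq).symm)
  rw [← hgood.val]
  show (g.comp φP) _ = φY (eY.symm (eY (φ _)))
  rw [hcomp, eY.symm_apply_apply]
  rfl

end Groth.Agent.KPush
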