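import Groth.Agent.KPushLib.Main
import Mathlib.CategoryTheory.Abelian.RightDerived

/-!
# The Poincaré map commutes with push-forward
-/

set_option autoImplicit false
set_option backward.isDefEq.respectTransparency false
set_option linter.style.haveILetI false
set_option linter.unusedSectionVars false
set_option maxHeartbeats 1000000

universe v u

open CategoryTheory CategoryTheory.Limits AlgebraicGeometry TopologicalSpace
open Groth.Agent.DCohLib Groth.Agent.DCohMore

attribute [local instance] HasDerivedCategory.standard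

noncomputable section

namespace Groth.Agent.KPush

open Groth.Agent.DCohMore.TwistOver Groth.Agent.RegLib Groth.Agent.KRRAmple

theorem delta_clP {Y : Scheme.{u}} [IsLocallyNoetherian Y] (hYe : KRR.HasEnoughLocFree Y)
    (hY : ∀ M : Y.Modules, FlatMod.IsFinLocFree M → Coh.IsCoh M) {M : Y.Modules} (hM : PDfin M) :
    SGA6.mapSub (𝟭 Y.Modules) (KRR.vbP Y) (fun M : Y.Modules => Coh.IsCoh M) hY (clP hYe M) =
      KZero.clSub (fun M : Y.Modules => Coh.IsCoh M) M := by
  have hle : ∀ M : Y.Modules, PDfin M → Coh.IsCoh M := fun M h => h.choose_spec.1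
  let e := (exists_equiv_PDfin hYe).choose
  let D := SGA6.mapSub (𝟭 Y.Modules) (PDfin (X := Y)) (fun M : Y.Modules => Coh.IsCoh M) hle
  have key : SGA6.mapSub (𝟭 Y.Modules) (KRR.vbP Y) (fun M : Y.Modules => Coh.IsCoh M) hY = D.comp e.toAddMonoidHom :=
    KRRAmple.addMonoidHom_ext_cl fun F hF => by
      show _ = D (e (KRR.cl Y F))
      rw [show e (KRR.cl Y F) = KZero.clSub PDfin F from (exists_equiv_PDfin hYe).choose_spec F hF,
        show D (KZero.clSub PDfin F) = _ from mapSub_cl _ _ _ hle (pdFin_zero hF), mapSub_cl _ _ _ hY hF]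
  rw [key]
  show D (e (e.symm (KZero.clSub PDfin M))) = _
  rw [e.apply_symm_apply, show D (KZero.clSub PDfin M) = _ from mapSub_cl _ _ _ hle hM]
  rfl

theorem clSub_coh_iso {Y : Scheme.{u}} [IsLocallyNoetherian Y] {M N : Y.Modules} (e : M ≅ N) (hM : Coh.IsCoh M) :
    KZero.clSub (fun M : Y.Modules => Coh.IsCoh M) N = KZero.clSub (fun M : Y.Modules => Coh.IsCoh M) M := by
  have hz := isZero_kernel_of_mono e.hom
  have h := K0ResLib.clSub_add (P := fun M : Y.Modules => Coh.IsCoh M) (K0ResLib.kerSC_shortExact e.hom)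
    (DCohLib.isCoh_of_isFinLocFree (isFinLocFree_of_isZero hz)) hM (DCohLib.isCoh_iso e hM)
  dsimp only [K0ResLib.kerSC] at h
  rw [h, KZeroLib.clSub_isZero hz, zero_add]

/-- `δ ∘ f_K = f_! ∘ δ`. -/
theorem poincare_comm {n : ℕ} {X Y : Scheme.{u}} [IsNoetherian Y] [HasInjectiveResolutions X.Modules]
    (hYe : KRR.HasEnoughLocFree Y) (hPe : KRR.HasEnoughLocFree (KRR.PY n Y))
    {i : X ⟶ KRR.PY n Y} (hi : Mor2.IsRegularClosedImmersion i)
    (hX : ∀ M : X.Modules, FlatMod.IsFinLocFree M → Coh.IsCoh M)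
    (hY : ∀ M : Y.Modules, FlatMod.IsFinLocFree M → Coh.IsCoh M)
    {KX KP KY : Type v} [CommRing KX] [CommRing KP] [CommRing KY] {φX : SGA6.Kvb X →+ KX}
    {φP : SGA6.Kvb (KRR.PY n Y) →+ KP} {φY : SGA6.Kvb Y →+ KY} (hφY : Function.Bijective φY)
    {a : KX →+ KP} (ha : KRR.IsPushCl i φX φP a) {b : KP →+ KY} (hb : KRR.IsPushPr n Y φP φY b)
    {N : ℕ} {g : SGA6.Kcoh X →+ SGA6.Kcoh Y} (hg : KRR.IsPushCoh (i ≫ KRR.pr n Y) N g)
    (x : SGA6.Kvb X) {y : SGA6.Kvb Y} (hxy : φY y = b (a (φX x))) :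
    SGA6.mapSub (𝟭 Y.Modules) (KRR.vbP Y) (fun M : Y.Modules => Coh.IsCoh M) hY y =
      g (SGA6.mapSub (𝟭 X.Modules) (KRR.vbP X) (fun M : X.Modules => Coh.IsCoh M) hX x) := by
  classical
  haveI := isNoetherian_PY n Y
  haveI := hi.1
  haveI : CompactSpace X := QuasiCompact.compactSpace_of_compactSpace i
  set f := i ≫ KRR.pr n Y
  let δY := SGA6.mapSub (𝟭 Y.Modules) (KRR.vbP Y) (fun M : Y.Modules => Coh.IsCoh M) hY
  let δX := SGA6.mapSub (𝟭 X.Modules) (KRR.vbP X) (fun M : X.Modules => Coh.IsCoh M) hX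
  let e := AddEquiv.ofBijective φY hφY
  let L : SGA6.Kvb X →+ SGA6.Kcoh Y := δY.comp (e.symm.toAddMonoidHom.comp (b.comp (a.comp φX)))
  have key : L = g.comp δX := KRRAmple.addMonoidHom_ext_cl fun F hF => by
    obtain ⟨M, hM⟩ := eventually_rvan_twist hPe i hi rfl hF
    refine cl_mem_of_twists i (L.eqLocus (g.comp δX)) hF (m := M) fun j hj => ?_
    let G := CohB1.tensorMod F ((Scheme.Modules.pullback i).obj (O n Y (j : ℤ)))
    have hG : FlatMod.IsFinLocFree G :=
      isFinLocFree_tensor hF (PullbackMod.isFinLocFree_pullback i _ (isFinLocFree_O n Y (j : ℤ)))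
    obtain ⟨hpd, h⟩ := push_formula hPe hYe i hi (f := f) rfl ha hb hG (hM j hj)
    show δY (e.symm (b (a (φX (KRR.cl X G))))) = g (δX (KRR.cl X G))
    rw [h, show e.symm (φY _) = _ from e.symm_apply_apply _, show δY _ = _ from delta_clP hYe hY hpd,
      show δX (KRR.cl X G) = KZero.clSub (fun M : X.Modules => Coh.IsCoh M) G from mapSub_cl _ _ _ hX hG, hg.2 _ (hX G hG)]
    have hcoh := hpd.choose_spec.1
    haveI : Coh.IsQCoh ((Scheme.Modules.pushforward f).obj G) := hcoh.1
    have e0 : (Coh.Rpush f 0).obj G ≅ (Scheme.Modules.pushforward f).obj G :=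
      (Scheme.Modules.pushforward f).rightDerivedZeroIsoSelf.app G
    rw [Finset.sum_eq_single 0 (fun q _ hq => by
      rw [show KZero.clSub (fun M : Y.Modules => Coh.IsCoh M) ((Coh.Rpush f q).obj G) = 0 from
        KZeroLib.clSub_isZero ((rvan_iff_rpush f G).1 (hM j hj) q (Nat.one_le_iff_ne_zero.2 hq)), smul_zero])
      (fun h0 => absurd (Finset.mem_range.2 (Nat.succ_pos _)) h0), pow_zero, one_smul]
    exact clSub_coh_iso e0 (DCohLib.isCoh_iso e0.symm hcoh)
  have hy : y = e.symm (b (a (φX x))) := e.injective (by rw [e.apply_symm_apply]; exact hxy)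
  rw [hy]
  exact DFunLike.congr_fun key x

end Groth.Agent.KPush
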